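import Groth.Agent.AlgSpFieldLib.Conn

/-!
# Base change along geometrically connected morphisms and connected components
-/

set_option autoImplicit false
set_option backward.isDefEq.respectTransparency false
set_option backward.isDefEq.respectTransparency.types false
universe u
open CategoryTheory CategoryTheory.Limits AlgebraicGeometry
open AlgSp AlgSpLib

namespace AlgSpGeomFibre

variable {S : Scheme.{u}}

section
variable {F F' : Sp S} {T T' : Over S} (g : T' ⟶ T) {p : F ⟶ (yon S).obj T} {p' : F' ⟶ (yon S).obj T'}
  {fst : F' ⟶ F} (sq : IsPullback fst p' p ((yon S).map g))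
include sq

theorem exists_chart_of_base_change (hF : IsAlgSpace F) :
    ∃ (U W : Over S) (a : (yon S).obj U ⟶ F) (h : U ⟶ T) (m : W ⟶ U) (q : W ⟶ T') (c : (yon S).obj W ⟶ F'),
      RepWith @Etale a ∧ Function.Surjective (Points.ofPt a) ∧ Function.Surjective (Points.ofPt c) ∧
        IsPullback m.left q.left h.left g.left ∧ IsPullback ((yon S).map m) c a fst := by
  obtain ⟨U, a, ha, has⟩ := hF.atlas
  obtain ⟨h, hh⟩ := (yon S).map_surjective (a ≫ p)
  let W : Over S := Over.mk (pullback.fst h.left g.left ≫ U.hom)
  let m : W ⟶ U := Over.homMk (pullback.fst h.left g.left) rfl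
  let q : W ⟶ T' := Over.homMk (pullback.snd h.left g.left) (by
    show pullback.snd h.left g.left ≫ T'.hom = pullback.fst h.left g.left ≫ U.hom
    rw [← Over.w g, ← pullback.condition_assoc, Over.w h])
  have sqW : IsPullback ((yon S).map m) ((yon S).map q) ((yon S).map h) ((yon S).map g) :=
    (IsPullback.of_map (Over.forget S) (f := m) (g := q) (h := h) (i := g)
      (Over.OverMorphism.ext pullback.condition) (IsPullback.of_hasPullback h.left g.left)).map (yon S)
  let c : (yon S).obj W ⟶ F' := sq.lift ((yon S).map m ≫ a) ((yon S).map q)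
    (by rw [Category.assoc, ← hh]; exact sqW.w)
  have sqc : IsPullback ((yon S).map m) c a fst :=
    IsPullback.of_bot (by rw [sq.lift_snd, ← hh]; exact sqW) (sq.lift_fst _ _ _).symm sq
  exact ⟨U, W, a, h, m, q, c, ha, surjective_ofPt has, surjective_ofPt (repWith_of_isPullback sqc has),
    IsPullback.of_hasPullback h.left g.left, sqc⟩

theorem connected_fibres [GeometricallyConnected g.left] [UniversallyOpen g.left] [Surjective g.left] (hF : IsAlgSpace F) :
    IsOpenMap (Points.map fst) ∧ Function.Surjective (Points.map fst) ∧
      ∀ y, IsConnected (Points.map fst ⁻¹' {y}) := by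
  obtain ⟨U, W, a, h, m, q, c, ha, has, hcs, sqm, sqc⟩ := exists_chart_of_base_change g sq hF
  haveI : UniversallyOpen m.left := MorphismProperty.of_isPullback (P := @UniversallyOpen) sqm.flip inferInstance
  haveI : Surjective m.left := MorphismProperty.of_isPullback (P := @Surjective) sqm.flip inferInstance
  haveI : GeometricallyConnected m.left :=
    MorphismProperty.of_isPullback (P := @GeometricallyConnected) sqm.flip inferInstance
  have hc : ∀ w, Points.map fst (Points.ofPt c w) = Points.ofPt a (m.left w) := fun w => by
    rw [Points.map_ofPt, ← sqc.w, ofPt_yon_comp]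
  refine ⟨AlgSpFieldLib.isOpenMap_of_chart fst c hcs ?_, fun y => ?_, fun y => ?_⟩
  · rw [show Points.ofPt (c ≫ fst) = Points.ofPt a ∘ m.left from funext fun w => (Points.map_ofPt c fst w).symm.trans (hc w)]
    exact (isOpenMap_ofPt ha).comp m.left.isOpenMap
  · obtain ⟨v, rfl⟩ := has y
    obtain ⟨w, rfl⟩ := m.left.surjective v
    exact ⟨_, hc w⟩
  · obtain ⟨v, rfl⟩ := has y
    have e : Points.map fst ⁻¹' {Points.ofPt a v} = Points.ofPt c '' (m.left ⁻¹' {v}) := by
      ext z
      constructor
      · intro hz
        obtain ⟨w, h1, h2⟩ := exists_point_isPullback sqc (Points.schemeHomeo _ v) z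
          ((congrFun (ofPt_comp_ofScheme a) v).symm.trans hz.symm)
        obtain ⟨w, rfl⟩ := (Points.schemeHomeo _).surjective w
        rw [Points.map_yon_map_apply] at h1
        exact ⟨w, (Points.schemeHomeo _).injective h1, (congrFun (ofPt_comp_ofScheme c) w).trans h2⟩
      · rintro ⟨w, rfl, rfl⟩
        exact hc w
    rw [e]
    exact (m.left.isConnected_preimage_singleton v).image _ (Points.continuous_ofPt c).continuousOn

theorem bijective_connectedComponentsMap [GeometricallyConnected g.left] [UniversallyOpen g.left] [Surjective g.left]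
    (hF : IsAlgSpace F) : Function.Bijective (Points.continuous_map fst).connectedComponentsMap :=
  AlgSpFieldLib.bijective_connectedComponentsMap _ (connected_fibres g sq hF).1 (connected_fibres g sq hF).2.1
    (connected_fibres g sq hF).2.2

end

/-- A morphism of spectra of fields with separably closed target field has the properties above. -/
theorem field_hom_props {K L : Type u} [Field K] [Field L] [IsSepClosed K] {σ : Spec (CommRingCat.of K) ⟶ S}
    {τ : Spec (CommRingCat.of L) ⟶ S} (g : Over.mk τ ⟶ Over.mk σ) :
    GeometricallyConnected g.left ∧ UniversallyOpen g.left ∧ Surjective g.left := by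
  refine ⟨AlgSpFieldLib.geometricallyConnected_of_isSepClosed (K := K) g.left, ?_, ⟨fun x => ⟨(IsLocalRing.closedPoint L : Spec (CommRingCat.of L)),
    @Subsingleton.elim _ (inferInstanceAs (Subsingleton (Spec (CommRingCat.of K)))) _ _⟩⟩⟩
  let g₀ : Spec (CommRingCat.of L) ⟶ Spec (CommRingCat.of K) := g.left
  exact (inferInstance : UniversallyOpen g₀)

end AlgSpGeomFibre
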