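import Groth.Agent.AlgSpGeomFibre.Basic
import Groth.Agent.AlgSpLib.ShriekSp
import Groth.Agent.MonoPtLib.LimSepApps

/-!
# Connectedness of spaces over a field and of their extensions to the base
-/

set_option autoImplicit false
set_option backward.isDefEq.respectTransparency false
set_option backward.isDefEq.respectTransparency.types false
universe u
open CategoryTheory CategoryTheory.Limits AlgebraicGeometry
open AlgSp AlgSpLib AlgSpLib.Shriek

namespace AlgSpGeomFibre

theorem connectedSpace_iff_of_quotients {α β γ : Type*} [TopologicalSpace α] [TopologicalSpace β] [TopologicalSpace γ]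
    {f : α → β} {f' : α → γ} (hf : Topology.IsQuotientMap f) (hf' : Topology.IsQuotientMap f')
    (hk : ∀ x y, f x = f y ↔ f' x = f' y) : ConnectedSpace β ↔ ConnectedSpace γ := by
  let φ : β → γ := fun y => f' (Function.surjInv hf.surjective y)
  let ψ : γ → β := fun y => f (Function.surjInv hf'.surjective y)
  have e : φ ∘ f = f' := funext fun x => (hk _ _).1 (Function.surjInv_eq hf.surjective (f x))
  have e' : ψ ∘ f' = f := funext fun x => (hk _ _).2 (Function.surjInv_eq hf'.surjective (f' x))
  have hc : Continuous φ := hf.continuous_iff.2 (e ▸ hf'.continuous)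
  have hc' : Continuous ψ := hf'.continuous_iff.2 (e' ▸ hf.continuous)
  have hs : Function.Surjective φ := Function.Surjective.of_comp (g := f) (e ▸ hf'.surjective)
  have hs' : Function.Surjective ψ := Function.Surjective.of_comp (g := f') (e' ▸ hf.surjective)
  exact ⟨fun _ => hs.connectedSpace hc, fun _ => hs'.connectedSpace hc'⟩

variable {S S' : Scheme.{u}} (g : S ⟶ S')

/-- Connectedness of the space of points is unchanged by extension to the base. -/
theorem connectedSpace_shr_iff {F : Sp S} (hF : IsAlgSpace F) :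
    ConnectedSpace (Points ((shr g).obj F)) ↔ ConnectedSpace (Points F) := by
  obtain ⟨U, a, ha, has⟩ := hF.atlas
  obtain ⟨R, t, s, sq⟩ := exists_isPullback_yon a a ha.rep
  let a' : (yon S').obj ((Over.map g).obj U) ⟶ (shr g).obj F := inv (yonMap g U) ≫ (shr g).map a
  have tr : ∀ {P : MorphismProperty Scheme.{u}} [P.RespectsIso], RepWith P a → RepWith P a' := by
    intro P _ hP
    rw [(RepWith (S := S') P).cancel_left_of_respectsIso]
    exact repWith_shr_map hP
  have sq' : IsPullback ((yon S').map ((Over.map g).map t)) ((yon S').map ((Over.map g).map s)) a' a' :=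
    IsPullback.of_iso (isPullback_map g sq) (asIso (yonMap g R)) (asIso (yonMap g U)) (asIso (yonMap g U))
      (Iso.refl _) (yonMap_natural (g := g) t) (yonMap_natural (g := g) s) (by simp [a']) (by simp [a'])
  have hq : Topology.IsQuotientMap (Points.ofPt a) :=
    (isOpenMap_ofPt ha).isQuotientMap (Points.continuous_ofPt a) (surjective_ofPt has)
  have hq' : Topology.IsQuotientMap (Points.ofPt a') :=
    (isOpenMap_ofPt (tr ha)).isQuotientMap (Points.continuous_ofPt a') (surjective_ofPt (tr has))
  exact connectedSpace_iff_of_quotients (α := U.left) hq' hq fun x y =>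
    (ofPt_eq_ofPt_iff sq' x y).trans (ofPt_eq_ofPt_iff sq x y).symm

/-- The extension of a product with a representable sheaf is the fibre product over the base. -/
theorem isPullback_shr_prod {F : Sp S} {P : Sp S'} (e : (shr g).obj F ≅ P) {p : P ⟶ (yon S').obj (Over.mk g)}
    (he : e.hom ≫ p = π g F) (E : Over S) :
    IsPullback ((shr g).map prod.fst ≫ e.hom) ((shr g).map (prod.snd : F ⨯ (yon S).obj E ⟶ _) ≫ yonMap g E) p
      ((yon S').map (Over.homMk E.hom rfl : (Over.map g).obj E ⟶ Over.mk g)) := by
  let one : Sp S := (yon S).obj (Over.mk (𝟙 S))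
  let t : IsTerminal one := Groth.Agent.MonoPtLib.isTerminalOne
  have sq₀ : IsPullback (prod.fst : F ⨯ (yon S).obj E ⟶ F) prod.snd (t.from F) (t.from _) :=
    isPullback_of_forall_existsUnique (t.hom_ext _ _) fun R x y _ =>
      ⟨prod.lift x y, ⟨prod.lift_fst _ _, prod.lift_snd _ _⟩, fun z hz =>
        Limits.prod.hom_ext (by rw [prod.lift_fst, hz.1]) (by rw [prod.lift_snd, hz.2])⟩
  haveI : IsIso (Over.homMk (Over.mk (𝟙 S)).hom rfl : (Over.map g).obj (Over.mk (𝟙 S)) ⟶ Over.mk g) := by
    haveI : IsIso ((Over.forget S').map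
        (Over.homMk (Over.mk (𝟙 S)).hom rfl : (Over.map g).obj (Over.mk (𝟙 S)) ⟶ Over.mk g)) :=
      inferInstanceAs (IsIso (𝟙 S))
    exact isIso_of_reflects_iso _ (Over.forget S')
  haveI : IsIso (π g one) := by
    rw [← yonMap_π (g := g) (Over.mk (𝟙 S))]; infer_instance
  refine IsPullback.of_iso (isPullback_map g sq₀) (Iso.refl _) e (asIso (yonMap g E)) (asIso (π g one))
    (by simp) (by simp) ?_ ?_
  · rw [asIso_hom, π_natural, he]
  · rw [asIso_hom, asIso_hom, π_natural, yonMap_π]

/-- Connectedness of a fibre product along isomorphic maps. -/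
theorem connectedSpace_of_iso {X P P' H H' Y : Sp S} {f : X ⟶ Y} {g₀ : H ⟶ Y} {a : P ⟶ X} {b : P ⟶ H}
    {a' : P' ⟶ X} {b' : P' ⟶ H'} (e : H' ≅ H) (sq : IsPullback a b f g₀) (sq' : IsPullback a' b' f (e.hom ≫ g₀))
    [ConnectedSpace (Points P)] : ConnectedSpace (Points P') := by
  have sq'' : IsPullback a' (b' ≫ e.hom) f g₀ :=
    IsPullback.of_iso sq' (Iso.refl _) (Iso.refl _) e (Iso.refl _) (by simp) (by simp) (by simp) (by simp)
  let ε := sq.isoIsPullback _ _ sq''
  have hs : Function.Surjective (Points.map ε.hom) := fun y =>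
    ⟨Points.map ε.inv y, by rw [← Points.map_comp, ε.inv_hom_id, Points.map_id]⟩
  exact hs.connectedSpace (Points.continuous_map _)

end AlgSpGeomFibre
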